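import Mathlib
import Cfsg.Agent.BlockCharsA.Subsection

/-!
# Height zero characters of a 2-block and one subsection

For a subsection `(y, b)` of a 2-block the Galois average of the diagonal contribution of a
character of height zero is an odd integer.  Together with the projection property this bounds the
number of characters of height zero by the rank and the defect of `b`.
-/

set_option linter.style.haveILetI false
set_option linter.unusedSectionVars false

namespace Cfsg.Agent.CharTheory.SubsectionOdd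

open Cfsg.Agent.Blocks Cfsg.Agent.Characters Cfsg.Agent.BlockCharsA
open Cfsg.Agent.BlockCharsA.RegularPart Cfsg.Agent.BlockCharsA.Subsection Polynomial
open scoped ComplexConjugate

universe u

/-- The arithmetic of odd diagonal entries. -/
theorem bounds_of_odd_diag {ι : Type*} (s : Finset ι) (r : ι → ℕ) (t l : ℕ)
    (hodd : ∀ i ∈ s, Odd (r i)) (hsum : ∑ i ∈ s, r i ≤ t * l)
    (hrow : ∀ i ∈ s, s.card + r i * r i ≤ t * r i + 1) :
    (Odd (Nat.sqrt l) → s.card ≤ Nat.sqrt l * t) ∧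
    (¬ Odd (Nat.sqrt l) → (Nat.sqrt l + 1) * s.card ≤ l * t) ∧
    (l ≤ 3 → s.card ≤ t) := by
  set a := Nat.sqrt l with ha
  have hlo : a * a ≤ l := Nat.sqrt_le l
  have hhi : l < (a + 1) * (a + 1) := Nat.lt_succ_sqrt l
  have hbig : ∀ c : ℕ, (∀ i ∈ s, c ≤ r i) → c * s.card ≤ t * l := fun c hc => by
    have h := Finset.card_nsmul_le_sum s r c hc
    rw [smul_eq_mul, mul_comm] at h
    exact h.trans hsum
  have hodd' : Odd a → s.card ≤ a * t := by
    intro hao
    by_cases hs : ∃ i ∈ s, r i ≤ a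
    · obtain ⟨i, hi, hle⟩ := hs
      have h1 := hrow i hi
      have h2 : 1 ≤ r i * r i := Nat.one_le_iff_ne_zero.2 (by simp [(hodd i hi).pos.ne'])
      have h3 : t * r i ≤ t * a := Nat.mul_le_mul_left t hle
      rw [mul_comm a t]; omega
    · push Not at hs
      have h := hbig (a + 2) fun i hi => by
        have h1 := hs i hi
        have h2 : r i ≠ a + 1 := fun e => by
          have := hodd i hi
          rw [e, Nat.odd_add_one] at this
          exact this hao
        omega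
      have h4 : t * l ≤ t * (a * (a + 2)) := Nat.mul_le_mul_left t (by nlinarith)
      refine Nat.le_of_mul_le_mul_left (c := a + 2) (h.trans (h4.trans (le_of_eq ?_))) (by omega)
      ring
  refine ⟨hodd', fun hae => ?_, fun hl => ?_⟩
  · by_cases hs : ∃ i ∈ s, r i + 1 ≤ a
    · obtain ⟨i, hi, hle⟩ := hs
      have h1 := hrow i hi
      have h2 : 1 ≤ r i * r i := Nat.one_le_iff_ne_zero.2 (by simp [(hodd i hi).pos.ne'])
      have h3 : s.card ≤ t * r i := by omega
      calc (a + 1) * s.card ≤ (a + 1) * (t * r i) := Nat.mul_le_mul_left _ h3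
        _ = t * ((a + 1) * r i) := by ring
        _ ≤ t * l := Nat.mul_le_mul_left t (by nlinarith)
        _ = l * t := mul_comm t l
    · push Not at hs
      rw [mul_comm l t]
      refine hbig (a + 1) fun i hi => ?_
      have h1 := hs i hi
      have h2 : r i ≠ a := fun e => hae (e ▸ hodd i hi)
      omega
  · rcases Nat.eq_zero_or_pos l with rfl | hl0
    · have h := hbig 1 fun i hi => (hodd i hi).pos
      omega
    · have h1 : a = 1 := by
        have : a < 2 := Nat.sqrt_lt.2 (by omega)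
        have : 0 < a := Nat.sqrt_pos.2 hl0
        omega
      have h := hodd' (h1 ▸ odd_one)
      rw [h1, one_mul] at h
      exact h

/-- The value of the Galois average of a root of unity of `2`-power order. -/
def avgSign (q j : ℕ) : ℤ := if q ∣ j then 1 else if q ∣ 2 * j then -1 else 0

theorem sum_pow_primitiveRoots {k : ℕ} (j : ℕ) :
    ∑ μ ∈ primitiveRoots (2 ^ k) ℂ, μ ^ j =
      ((primitiveRoots (2 ^ k) ℂ).card : ℂ) * (avgSign (2 ^ k) j : ℂ) := by
  classical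
  rcases k with _ | k
  · simp [avgSign, IsPrimitiveRoot.primitiveRoots_one]
  set m := 2 ^ k with hm
  set q := 2 ^ (k + 1) with hq
  have hqm : q = 2 * m := by rw [hq, hm, pow_succ']
  have hm0 : 0 < m := pow_pos two_pos k
  have hq0 : q ≠ 0 := by omega
  set ζ := Complex.exp (2 * Real.pi * Complex.I / q)
  have hζ : IsPrimitiveRoot ζ q := Complex.isPrimitiveRoot_exp q hq0
  have himg : primitiveRoots q ℂ = (Finset.range m).image (fun i => ζ ^ (2 * i + 1)) := by
    symm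
    refine Finset.eq_of_subset_of_card_le ?_ ?_
    · intro μ hμ
      obtain ⟨i, -, rfl⟩ := Finset.mem_image.1 hμ
      rw [mem_primitiveRoots (Nat.pos_of_ne_zero hq0)]
      exact hζ.pow_of_coprime _ ((Nat.coprime_two_right.2 (odd_two_mul_add_one i)).pow_right (k + 1))
    · rw [Finset.card_image_of_injOn, Finset.card_range, hζ.card_primitiveRoots, hq,
        Nat.totient_prime_pow Nat.prime_two (Nat.succ_pos k)]
      · simp [hm]
      · intro i hi i' hi' e
        simp only [Finset.coe_range, Set.mem_Iio] at hi hi'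
        have := hζ.pow_inj (by omega) (by omega) e
        omega
  have hcard : (primitiveRoots q ℂ).card = m := by
    rw [hζ.card_primitiveRoots, hq, Nat.totient_prime_pow Nat.prime_two (Nat.succ_pos k)]
    simp [hm]
  rw [hcard, himg, Finset.sum_image]
  · have hgeom : ∀ i : ℕ, (ζ ^ (2 * i + 1)) ^ j = ζ ^ j * (ζ ^ (2 * j)) ^ i := fun i => by
      rw [← pow_mul, ← pow_mul, ← pow_add]; congr 1; ring
    simp only [hgeom, ← Finset.mul_sum, avgSign]
    by_cases h1 : q ∣ j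
    · rw [if_pos h1]
      have e1 : ζ ^ j = 1 := hζ.pow_eq_one_iff_dvd j |>.2 h1
      have e2 : ζ ^ (2 * j) = 1 := hζ.pow_eq_one_iff_dvd _ |>.2 (h1.mul_left 2)
      simp [e1, e2]
    · rw [if_neg h1]
      by_cases h2 : q ∣ 2 * j
      · rw [if_pos h2]
        have e2 : ζ ^ (2 * j) = 1 := hζ.pow_eq_one_iff_dvd _ |>.2 h2
        have e1 : ζ ^ j = -1 := by
          have h3 : ζ ^ j * ζ ^ j = 1 := by rw [← pow_add, ← two_mul, e2]
          rcases mul_self_eq_one_iff.1 h3 with h | h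
          · exact absurd ((hζ.pow_eq_one_iff_dvd j).1 h) h1
          · exact h
        simp [e1, e2]
      · rw [if_neg h2]
        have e2 : ζ ^ (2 * j) ≠ 1 := fun h => h2 ((hζ.pow_eq_one_iff_dvd _).1 h)
        have e3 : (ζ ^ (2 * j)) ^ m = 1 := by
          rw [← pow_mul, hζ.pow_eq_one_iff_dvd, hqm]
          exact ⟨j, by ring⟩
        rw [geom_sum_eq e2, e3]
        simp
  · intro i hi i' hi' e
    simp only [Finset.coe_range, Set.mem_Iio] at hi hi'
    have := hζ.pow_inj (by omega) (by omega) e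
    omega

variable {G : Type u} [Group G] [Finite G] {M : Ideal Cfsg.AlgInt}

/-- The odd diagonal entries of a subsection of a 2-block. -/
theorem exists_odd_diag (hM : Cfsg.IsPModular 2 M) {B : Set (Cfsg.IrrCharacter G)}
    {y : G} (hy : ∃ k : ℕ, orderOf y = 2 ^ k)
    {b : Set (Cfsg.IrrCharacter (Subgroup.centralizer ({y} : Set G)))}
    (hind : Cfsg.IsInducedBlock M (Subgroup.centralizer ({y} : Set G)) b B)
    (X : Finset (Cfsg.IrrCharacter G))
    (hX : ∀ χ ∈ X, χ ∈ B ∧ Cfsg.blockHeight 2 B (χ : G → ℂ) = 0) :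
    ∃ r : Cfsg.IrrCharacter G → ℕ, (∀ χ ∈ X, Odd (r χ)) ∧
      ∑ χ ∈ X, r χ ≤ 2 ^ Cfsg.blockDefect 2 b * Cfsg.blockRank 2 b ∧
      ∀ χ ∈ X, X.card + r χ * r χ ≤ 2 ^ Cfsg.blockDefect 2 b * r χ + 1 := by
  classical
  haveI := fact_prime_of_pm hM
  obtain ⟨p, hpdef⟩ : ∃ p : ℕ, p = 2 := ⟨2, rfl⟩
  rw [← hpdef] at hM hy hX ⊢
  haveI := Fintype.ofFinite G
  haveI := Fintype.ofFinite (Cfsg.IrrCharacter G)
  haveI := Fintype.ofFinite (Subgroup.centralizer ({y} : Set G))
  haveI := Fintype.ofFinite (Cfsg.IrrCharacter (Subgroup.centralizer ({y} : Set G)))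
  have hB := hind.2.1
  have hb := hind.1
  obtain ⟨k, hk⟩ := id hy
  set q := p ^ k with hqdef
  have hq0 : q ≠ 0 := pow_ne_zero _ hM.1.ne_zero
  have hyq : y ^ q = 1 := by rw [← hk, pow_orderOf_eq_one]
  haveI : NeZero q := ⟨hq0⟩
  set ζ := Complex.exp (2 * Real.pi * Complex.I / q)
  have hζ : IsPrimitiveRoot ζ q := Complex.isPrimitiveRoot_exp q hq0
  have hex : ∀ η : Cfsg.IrrCharacter (Subgroup.centralizer ({y} : Set G)),
      ∃ i : ℕ, ζ ^ i = eps y η := fun η => by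
    obtain ⟨i, -, hi⟩ := hζ.eq_pow_of_pow_eq_one (eps_pow hyq η)
    exact ⟨i, hi⟩
  choose e he using hex
  have hn' : ∀ (χ : Cfsg.IrrCharacter G)
      (η : Cfsg.IrrCharacter (Subgroup.centralizer ({y} : Set G))), ∃ n : ℕ,
      Cfsg.classInner (fun c : Subgroup.centralizer ({y} : Set G) => (χ : G → ℂ) c)
        (η : Subgroup.centralizer ({y} : Set G) → ℂ) = (n : ℂ) :=
    fun χ η => classInner_char_nat (isCharacter_restrict _ (irr_isCharacter χ)) (irr_isCharacter η)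
  choose n hn using hn'
  obtain ⟨z, hz, hzs, -, -, -, -, -, -, -⟩ := Contrib.exists_matrix hM hb
  set bs := Finset.univ.filter (· ∈ b) with hbs
  set Bs := Finset.univ.filter (· ∈ B) with hBs
  set P : Cfsg.IrrCharacter G → Cfsg.IrrCharacter G → ℚ[X] := fun χ ψ =>
    ∑ η ∈ bs, ∑ η' ∈ bs, C (((n χ η * n ψ η' : ℕ) : ℚ) * (z η η' : ℚ)) *
      Polynomial.X ^ (e η + (q - 1) * e η') with hP
  have hPval : ∀ (μ : ℂ) (χ ψ : Cfsg.IrrCharacter G), aeval μ (P χ ψ) =
      ∑ η ∈ bs, ∑ η' ∈ bs, (n χ η : ℂ) * (n ψ η' : ℂ) * (z η η' : ℂ) *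
        μ ^ (e η + (q - 1) * e η') := by
    intro μ χ ψ
    simp [P, map_sum]
  have hconj : ∀ (μ : ℂ), μ ^ q = 1 → ∀ χ ψ : Cfsg.IrrCharacter G,
      conj (aeval μ (P χ ψ)) = aeval μ (P ψ χ) := by
    intro μ hμ χ ψ
    rw [hPval, hPval, map_sum, Finset.sum_comm]
    refine Finset.sum_congr rfl fun η hη => ?_
    rw [map_sum]
    refine Finset.sum_congr rfl fun η' hη' => ?_
    simp only [map_mul, Complex.conj_natCast, map_intCast, conj_pow_pair hq0 hμ]
    rw [hzs η' (Finset.mem_filter.1 hη').2 η (Finset.mem_filter.1 hη).2]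
    ring
  -- the value at `ζ`
  set d := Cfsg.blockDefect p b with hd
  set c : ℂ := ((p ^ d : ℕ) : ℂ) / (Nat.card (Subgroup.centralizer ({y} : Set G)) : ℂ) with hc
  set f : Cfsg.IrrCharacter G → Subgroup.centralizer ({y} : Set G) → ℂ := fun χ =>
    Cfsg.blockPart b (ZStar.Principal.shift y (χ : G → ℂ)) with hf
  have hfval : ∀ χ s, f χ s = ∑ η ∈ bs, (n χ η : ℂ) * ζ ^ e η * (η : Subgroup.centralizer ({y} : Set G) → ℂ) s := by
    intro χ s
    simp only [f]
    rw [ZStar.Principal.blockPart_eq_sum_mul, ZStar.Principal.finsum_mem_eq_sum_filter]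
    refine Finset.sum_congr (by ext; simp [bs]) fun η _ => ?_
    rw [classInner_shift hq0 hyq, hn, he]
  have hζval : ∀ χ ψ, aeval ζ (P χ ψ) = c * regSum p (f χ) (f ψ) := by
    intro χ ψ
    have hexp : regSum p (f χ) (f ψ) = ∑ η ∈ bs, ∑ η' ∈ bs,
        (n χ η : ℂ) * ζ ^ e η * ((n ψ η' : ℂ) * conj (ζ ^ e η')) *
          regSum p (η : Subgroup.centralizer ({y} : Set G) → ℂ) (η' : Subgroup.centralizer ({y} : Set G) → ℂ) := by
      rw [regSum_eq_sum]
      simp only [regSum_eq_sum, Finset.mul_sum]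
      conv_rhs => arg 2; ext η; rw [Finset.sum_comm]
      rw [Finset.sum_comm (s := bs)]
      refine Finset.sum_congr rfl fun s _ => ?_
      by_cases hs : p ∣ orderOf s
      · simp [hs]
      · simp only [hs, not_false_eq_true, if_true, hfval, map_sum, Finset.sum_mul, Finset.mul_sum,
          map_mul, Complex.conj_natCast]
        rw [Finset.sum_comm]
        exact Finset.sum_congr rfl fun η _ => Finset.sum_congr rfl fun η' _ => by ring
    rw [hPval, hexp, Finset.mul_sum]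
    refine Finset.sum_congr rfl fun η hη => ?_
    rw [Finset.mul_sum]
    refine Finset.sum_congr rfl fun η' hη' => ?_
    rw [← hz η (Finset.mem_filter.1 hη).2 η' (Finset.mem_filter.1 hη').2, Contrib.contrib,
      pow_add, map_pow, conj_eq_inv_of_pow hq0 hζ.pow_eq_one, inv_pow,
      show ζ ^ ((q - 1) * e η') = (ζ ^ e η')⁻¹ from by
        rw [← conj_eq_inv_of_pow hq0 (by rw [← pow_mul, mul_comm, pow_mul, hζ.pow_eq_one, one_pow]),
          ← zero_add (e η'), ← mul_zero (q - 1), add_comm ((q - 1) * 0),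
          conj_pow_pair hq0 hζ.pow_eq_one]
        simp]
    simp only [hc]
    ring
  -- nonvanishing
  obtain ⟨η₀, hη₀, hη₀h⟩ := exists_height_zero hM hb
  set a := (Nat.card (Subgroup.centralizer ({y} : Set G))).factorization p with ha
  set δ : Cfsg.IrrCharacter (Subgroup.centralizer ({y} : Set G)) → ℂ := fun η =>
    ((Cfsg.charDegree (η : Subgroup.centralizer ({y} : Set G) → ℂ) : ℕ) : ℂ) / ((p ^ (a - d) : ℕ) : ℂ) with hδ
  have hδr : ∀ η ∈ b, Cfsg.MemLocalRing M (δ η) := fun η hη =>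
    ring_natCast_div hM (pow_ne_zero _ hM.1.ne_zero) (by
      rw [hM.1.factorization_pow, Finsupp.single_eq_same]
      have := degree_factorization_eq hM hb hη
      omega)
  have hδ0 : ¬ Cfsg.MemLocalIdeal M (δ η₀) :=
    not_ideal_natCast_div hM (charDegree_pos η₀).ne' (pow_ne_zero _ hM.1.ne_zero) (by
      rw [hM.1.factorization_pow, Finsupp.single_eq_same]
      have := degree_factorization_eq hM hb hη₀
      omega)
  have hzr : ∀ η ∈ b, ∀ η' ∈ b, (z η η' : ℂ) = δ η' * ratio p (η : Subgroup.centralizer ({y} : Set G) → ℂ) (η' : Subgroup.centralizer ({y} : Set G) → ℂ) := by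
    intro η hη η' hη'
    obtain ⟨w, hw, hw', -⟩ := exists_coeff hM η η'
    rw [Contrib.classInner_hat_regSum, hw'] at hw
    rw [← hz η hη η' hη', Contrib.contrib, hδ]
    show _ = ((Cfsg.charDegree (η' : Subgroup.centralizer ({y} : Set G) → ℂ) : ℕ) : ℂ) / ((p ^ (a - d) : ℕ) : ℂ) * _
    have hpa : ((p ^ a : ℕ) : ℂ) = ((p ^ d : ℕ) : ℂ) * ((p ^ (a - d) : ℕ) : ℂ) := by
      rw [← Nat.cast_mul, ← pow_add, Nat.add_sub_cancel' (blockDefect_le p b)]
    rw [← ha, hpa] at hw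
    rw [div_mul_eq_mul_div _ ((p ^ (a - d) : ℕ) : ℂ), ← hw,
      eq_div_iff (natCast_p_pow_ne_zero hM _)]
    ring
  set R : Cfsg.IrrCharacter G → ℂ := fun χ =>
    ∑ η ∈ bs, (n χ η : ℂ) * ratio p (η : Subgroup.centralizer ({y} : Set G) → ℂ) (η₀ : Subgroup.centralizer ({y} : Set G) → ℂ) with hR
  set D : Cfsg.IrrCharacter G → ℂ := fun χ => ∑ η ∈ bs, (n χ η : ℂ) * δ η with hD
  have hRu : ∀ χ ∈ X, ¬ Cfsg.MemLocalIdeal M (R χ) := fun χ hχ =>
    sum_mult_ratio_unit hM hind (hX χ hχ).1 ((hX χ hχ).2) hη₀ (n χ) (hn χ)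
  have hDr : ∀ χ, Cfsg.MemLocalRing M (D χ) := fun χ => ring_sum hM fun η hη =>
    ring_mul hM (ring_natCast hM _) (hδr η (Finset.mem_filter.1 hη).2)
  have hRr : ∀ χ, Cfsg.MemLocalRing M (R χ) := fun χ => ring_sum hM fun η _ =>
    ring_mul hM (ring_natCast hM _) (ratio_ring hM η η₀)
  have hDu : ∀ χ ∈ X, ¬ Cfsg.MemLocalIdeal M (D χ) := by
    intro χ hχ h
    have hcong : Cong M (δ η₀ * R χ) (ratio p (η₀ : Subgroup.centralizer ({y} : Set G) → ℂ) (η₀ : Subgroup.centralizer ({y} : Set G) → ℂ) * D χ) := by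
      simp only [R, D, Finset.mul_sum]
      refine cong_sum hM fun η hη => ?_
      have hη' := (Finset.mem_filter.1 hη).2
      have e1 : δ η₀ * ((n χ η : ℂ) * ratio p (η : Subgroup.centralizer ({y} : Set G) → ℂ) (η₀ : Subgroup.centralizer ({y} : Set G) → ℂ)) =
          (n χ η : ℂ) * (z η₀ η : ℂ) := by
        rw [hzs η hη' η₀ hη₀, hzr η hη' η₀ hη₀]; ring
      rw [e1, hzr η₀ hη₀ η hη',
        show ratio p (η₀ : Subgroup.centralizer ({y} : Set G) → ℂ) (η₀ : Subgroup.centralizer ({y} : Set G) → ℂ) * ((n χ η : ℂ) * δ η) =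
          (n χ η : ℂ) * δ η * ratio p (η₀ : Subgroup.centralizer ({y} : Set G) → ℂ) (η₀ : Subgroup.centralizer ({y} : Set G) → ℂ) from by ring, ← mul_assoc]
      exact cong_mul_left hM (ring_mul hM (ring_natCast hM _) (hδr η hη'))
        (ratio_cong hM hb η₀ hη' hη₀)
    have h2 := (ideal_iff_of_cong hM hcong).2 (ideal_mul_left hM (ratio_ring hM η₀ η₀) h)
    rw [ideal_mul_iff hM (hδr η₀ hη₀) (hRr χ)] at h2
    exact h2.elim hδ0 (hRu χ hχ)
  have hnu : ∀ μ : ℂ, μ ^ q = 1 → ∀ χ ∈ X, ∀ ψ ∈ X, ¬ Cfsg.MemLocalIdeal M (aeval μ (P χ ψ)) := by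
    intro μ hμ χ hχ ψ hψ h0
    have hc1 : Cong M (aeval μ (P χ ψ)) (D ψ * R χ) := by
      rw [hPval]
      simp only [R, D, Finset.mul_sum]
      rw [show ∀ g : Cfsg.IrrCharacter (Subgroup.centralizer ({y} : Set G)) → ℂ,
        ∑ η ∈ bs, (∑ η' ∈ bs, (n ψ η' : ℂ) * δ η') * g η =
          ∑ η ∈ bs, ∑ η' ∈ bs, (n ψ η' : ℂ) * δ η' * g η from fun g =>
            Finset.sum_congr rfl fun η _ => Finset.sum_mul _ _ _]
      refine cong_sum hM fun η hη => cong_sum hM fun η' hη' => ?_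
      have hη1 := (Finset.mem_filter.1 hη).2
      have hη1' := (Finset.mem_filter.1 hη').2
      have e1 : Cong M ((n χ η : ℂ) * (n ψ η' : ℂ) * (z η η' : ℂ) * μ ^ (e η + (q - 1) * e η'))
          ((n χ η : ℂ) * (n ψ η' : ℂ) * (z η η' : ℂ) * 1) :=
        cong_mul_left hM (ring_mul hM (ring_mul hM (ring_natCast hM _) (ring_natCast hM _))
          (ring_intCast hM _)) (cong_one_of_pow_prime_pow hM (k := k) (by
            rw [← pow_mul, mul_comm, pow_mul, ← hqdef, hμ, one_pow]))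
      refine cong_trans hM e1 ?_
      rw [mul_one, hzr η hη1 η' hη1',
        show (n ψ η' : ℂ) * δ η' * ((n χ η : ℂ) * ratio p (η : Subgroup.centralizer ({y} : Set G) → ℂ) (η₀ : Subgroup.centralizer ({y} : Set G) → ℂ)) =
          (n χ η : ℂ) * (n ψ η' : ℂ) * δ η' * ratio p (η : Subgroup.centralizer ({y} : Set G) → ℂ) (η₀ : Subgroup.centralizer ({y} : Set G) → ℂ) from by ring,
        ← mul_assoc]
      exact cong_mul_left hM (ring_mul hM (ring_mul hM (ring_natCast hM _) (ring_natCast hM _))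
        (hδr η' hη1')) (ratio_cong hM hb η hη1' hη₀)
    have h2 := (ideal_iff_of_cong hM hc1).1 h0
    rw [ideal_mul_iff hM (hDr ψ) (hRr χ)] at h2
    exact h2.elim (hDu ψ hψ) (hRu χ hχ)
  have hXB : ∀ χ ∈ X, χ ∈ Bs := fun χ hχ =>
    Finset.mem_filter.2 ⟨Finset.mem_univ _, (hX χ hχ).1⟩
  have hcC : c * (Nat.card (Subgroup.centralizer ({y} : Set G)) : ℂ) = ((p ^ d : ℕ) : ℂ) := by
    rw [hc, div_mul_cancel₀ _ natCard_ne_zero]
  have hgram : ∀ s t : Subgroup.centralizer ({y} : Set G), ¬ p ∣ orderOf s → ¬ p ∣ orderOf t →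
      ∑ ψ ∈ Bs, f ψ s * conj (f ψ t) =
        (Nat.card (Subgroup.centralizer ({y} : Set G)) : ℂ) * blockKernelAt b s t := by
    intro s t hs ht
    rw [← gram_block hM hy hind hs ht, ZStar.Principal.finsum_mem_eq_sum_filter]
  -- the contributions form a multiple of a projection
  set S := Finset.univ.filter fun s : Subgroup.centralizer ({y} : Set G) => ¬ p ∣ orderOf s
    with hS
  have hrep : ∀ χ : Cfsg.IrrCharacter G, ∀ t ∈ S,
      ∑ s ∈ S, blockKernelAt b t s * f χ s = f χ t := by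
    intro χ t ht
    have ht' := (Finset.mem_filter.1 ht).2
    rw [Finset.sum_subset (Finset.subset_univ S) fun s _ hs => by
      rw [Rank.kernel_sing_right hM (intEl_blockIdem hM hb) ht' (by simpa [hS] using hs), zero_mul]]
    simp only [f, blockPart_eq_kernel, Finset.mul_sum]
    rw [Finset.sum_comm]
    exact Finset.sum_congr rfl fun c' _ => by
      simp only [← mul_assoc]
      rw [← Finset.sum_mul, Rank.kernel_mul_kernel]
  have hregS : ∀ χ ψ : Cfsg.IrrCharacter G,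
      regSum p (f χ) (f ψ) = ∑ s ∈ S, f χ s * conj (f ψ s) := fun χ ψ => by
    rw [regSum_eq_sum, hS, Finset.sum_filter]
  have hrowζ : ∀ χ : Cfsg.IrrCharacter G,
      ∑ ψ ∈ Bs, aeval ζ (P χ ψ) * aeval ζ (P ψ χ) = ((p ^ d : ℕ) : ℂ) * aeval ζ (P χ χ) := by
    intro χ
    simp only [hζval, hregS]
    calc ∑ ψ ∈ Bs, (c * ∑ s ∈ S, f χ s * conj (f ψ s)) * (c * ∑ t ∈ S, f ψ t * conj (f χ t))
        = c ^ 2 * ∑ t ∈ S, (∑ s ∈ S, f χ s * ∑ ψ ∈ Bs, f ψ t * conj (f ψ s)) * conj (f χ t) := by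
          simp only [Finset.mul_sum, Finset.sum_mul]
          rw [Finset.sum_comm]
          refine Finset.sum_congr rfl fun t _ => ?_
          rw [Finset.sum_comm]
          exact Finset.sum_congr rfl fun s _ => Finset.sum_congr rfl fun ψ _ => by ring
      _ = c ^ 2 * ∑ t ∈ S, (Nat.card (Subgroup.centralizer ({y} : Set G)) : ℂ) *
            (f χ t * conj (f χ t)) := by
          refine congrArg _ (Finset.sum_congr rfl fun t ht => ?_)
          rw [Finset.sum_congr rfl fun s hs => by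
            rw [hgram t s (Finset.mem_filter.1 ht).2 (Finset.mem_filter.1 hs).2,
              show f χ s * ((Nat.card (Subgroup.centralizer ({y} : Set G)) : ℂ) * blockKernelAt b t s) =
                (Nat.card (Subgroup.centralizer ({y} : Set G)) : ℂ) * (blockKernelAt b t s * f χ s)
                from by ring], ← Finset.mul_sum, hrep χ t ht]
          ring
      _ = _ := by rw [← Finset.mul_sum, ← hcC]; ring
  have hrow : ∀ μ ∈ primitiveRoots q ℂ, ∀ χ : Cfsg.IrrCharacter G,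
      ((∑ ψ ∈ Bs, ‖aeval μ (P χ ψ)‖ ^ 2 : ℝ) : ℂ) = ((p ^ d : ℕ) : ℂ) * aeval μ (P χ χ) := by
    intro μ hμ χ
    have hμ' := (mem_primitiveRoots (Nat.pos_of_ne_zero hq0)).1 hμ
    have h1 := aeval_eq_rat_of_primitive (Nat.pos_of_ne_zero hq0) hζ hμ'
      (∑ ψ ∈ Bs, P χ ψ * P ψ χ - (p ^ d : ℕ) * P χ χ) (q := 0)
      (by simp only [map_sub, map_sum, map_mul, map_natCast, hrowζ, sub_self, Rat.cast_zero])
    simp only [map_sub, map_sum, map_mul, map_natCast, Rat.cast_zero, sub_eq_zero] at h1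
    rw [← h1, Complex.ofReal_sum]
    refine Finset.sum_congr rfl fun ψ _ => ?_
    rw [← hconj μ hμ'.pow_eq_one χ ψ, Complex.mul_conj', Complex.ofReal_pow]
  -- the trace
  set l := Cfsg.blockRank p b with hl
  have htr : ∀ μ ∈ primitiveRoots q ℂ,
      ∑ χ ∈ Bs, aeval μ (P χ χ) = ((p ^ d * l : ℕ) : ℂ) := by
    intro μ hμ
    have hζl : aeval ζ (∑ χ ∈ Bs, P χ χ) = (((p ^ d * l : ℕ) : ℚ) : ℂ) := by
      rw [Rat.cast_natCast, Nat.cast_mul, map_sum, hl,
        Rank.blockRank_eq_trace hM (intEl_blockIdem hM hb)]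
      simp only [hζval, hregS, ← Finset.mul_sum]
      rw [Finset.sum_comm, ← Finset.sum_filter, ← hS,
        Finset.sum_congr rfl fun s hs => hgram s s (Finset.mem_filter.1 hs).2
          (Finset.mem_filter.1 hs).2, ← Finset.mul_sum, ← mul_assoc, hcC]
    have h1 := aeval_eq_rat_of_primitive (Nat.pos_of_ne_zero hq0) hζ
      ((mem_primitiveRoots (Nat.pos_of_ne_zero hq0)).1 hμ) _ hζl
    rwa [map_sum, Rat.cast_natCast] at h1
  -- the Galois averages
  set T := primitiveRoots q ℂ with hT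
  set R₀ : Cfsg.IrrCharacter G → ℤ := fun χ => ∑ η ∈ bs, ∑ η' ∈ bs,
    ((n χ η * n χ η' : ℕ) : ℤ) * z η η' * avgSign q (e η + (q - 1) * e η') with hR₀
  have havg : ∀ χ, ∑ μ ∈ T, aeval μ (P χ χ) = (T.card : ℂ) * (R₀ χ : ℂ) := by
    intro χ
    have hq2 : q = 2 ^ k := by rw [hqdef, hpdef]
    simp only [hPval, R₀, Int.cast_sum, Finset.mul_sum]
    rw [Finset.sum_comm]
    refine Finset.sum_congr rfl fun η _ => ?_
    rw [Finset.sum_comm]
    refine Finset.sum_congr rfl fun η' _ => ?_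
    rw [← Finset.mul_sum, hT, hq2, sum_pow_primitiveRoots]
    push_cast
    ring
  have hpar : ∀ χ ∈ X, Odd (R₀ χ) := by
    intro χ hχ
    have h1 := hnu 1 (one_pow q) χ hχ χ hχ
    rw [hPval] at h1
    set W : ℤ := ∑ η ∈ bs, ∑ η' ∈ bs, ((n χ η * n χ η' : ℕ) : ℤ) * z η η' with hW
    have hWodd : Odd W := by
      rw [← Int.not_even_iff_odd, even_iff_two_dvd]
      intro hdvd
      refine h1 ?_
      have e : (∑ η ∈ bs, ∑ η' ∈ bs, (n χ η : ℂ) * (n χ η' : ℂ) * (z η η' : ℂ) *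
          (1 : ℂ) ^ (e η + (q - 1) * e η')) = (W : ℂ) := by
        rw [hW]; push_cast; simp
      rw [e]
      exact (ideal_intCast_iff hM W).2 (by rw [hpdef]; exact_mod_cast hdvd)
    -- the difference is even
    have hdiff : ((W - R₀ χ : ℤ) : ZMod 2) = 0 := by
      rw [hW, hR₀]
      simp only [← Finset.sum_sub_distrib]
      rw [← Finset.sum_product', Int.cast_sum]
      refine Finset.sum_involution (fun x _ => (x.2, x.1)) ?_ ?_ ?_ ?_
      · intro x hx
        rw [Finset.mem_product] at hx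
        have hz' : z x.2 x.1 = z x.1 x.2 :=
          hzs _ (Finset.mem_filter.1 hx.1).2 _ (Finset.mem_filter.1 hx.2).2
        have hs : avgSign q (e x.2 + (q - 1) * e x.1) = avgSign q (e x.1 + (q - 1) * e x.2) := by
          have hiff : ∀ a c : ℕ, ∀ i : ℕ, q ∣ i * (a + (q - 1) * c) → q ∣ i * (c + (q - 1) * a) := by
            intro a c i h
            have h2 : q ∣ i * (a + (q - 1) * c) + i * (c + (q - 1) * a) :=
              ⟨i * (a + c), by
                obtain ⟨q', hq'⟩ := Nat.exists_eq_succ_of_ne_zero hq0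
                rw [hq', Nat.succ_sub_one, Nat.succ_eq_add_one]; ring⟩
            exact (Nat.dvd_add_right h).1 h2
          have h1' : ∀ i : ℕ, q ∣ i * (e x.2 + (q - 1) * e x.1) ↔
              q ∣ i * (e x.1 + (q - 1) * e x.2) := fun i => ⟨hiff _ _ i, hiff _ _ i⟩
          simp only [avgSign]
          have ha := h1' 1
          simp only [one_mul] at ha
          simp only [ha, h1' 2]
        dsimp only
        rw [hs, hz', Nat.mul_comm (n χ x.2), ← Int.cast_add, ← two_mul, Int.cast_mul]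
        exact mul_eq_zero_of_left (by rw [Int.cast_ofNat]; rfl) _
      · intro x _ hne heq
        obtain ⟨η, η'⟩ := x
        simp only [Prod.mk.injEq] at heq
        obtain ⟨rfl, -⟩ := heq
        refine hne ?_
        have hs : avgSign q (e η' + (q - 1) * e η') = 1 := by
          rw [avgSign, if_pos]
          exact ⟨e η', by
            obtain ⟨q', hq'⟩ := Nat.exists_eq_succ_of_ne_zero hq0
            rw [hq', Nat.succ_sub_one, Nat.succ_eq_add_one]; ring⟩
        dsimp only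
        rw [hs, mul_one, sub_self, Int.cast_zero]
      · intro x hx
        rw [Finset.mem_product] at hx ⊢
        exact ⟨hx.2, hx.1⟩
      · exact fun x _ => rfl
    have hev : Even (W - R₀ χ) := by
      rw [ZMod.intCast_zmod_eq_zero_iff_dvd] at hdiff
      exact even_iff_two_dvd.2 (by exact_mod_cast hdiff)
    rw [Int.even_sub] at hev
    rw [← Int.not_even_iff_odd] at hWodd ⊢
    exact fun h => hWodd (hev.2 h)
  have hre : ∀ μ ∈ T, ∀ χ : Cfsg.IrrCharacter G,
      (p ^ d : ℝ) * (aeval μ (P χ χ)).re = ∑ ψ ∈ Bs, ‖aeval μ (P χ ψ)‖ ^ 2 := by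
    intro μ hμ χ
    have h := congrArg Complex.re (hrow μ hμ χ)
    rw [Complex.ofReal_re] at h
    rw [h, Complex.mul_re, Complex.natCast_re, Complex.natCast_im]
    push_cast
    ring
  have hT0 : 0 < T.card := Finset.card_pos.2 ⟨ζ, (mem_primitiveRoots (Nat.pos_of_ne_zero hq0)).2 hζ⟩
  have hTr : (0 : ℝ) < (T.card : ℝ) := Nat.cast_pos.2 hT0
  have hpd : (0 : ℝ) < (p ^ d : ℝ) := pow_pos (Nat.cast_pos.2 hM.1.pos) d
  have havr : ∀ χ, ∑ μ ∈ T, (aeval μ (P χ χ)).re = (T.card : ℝ) * (R₀ χ : ℝ) := by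
    intro χ
    rw [← Complex.re_sum, havg]
    simp [Complex.mul_re]
  have hnn : ∀ μ ∈ T, ∀ χ : Cfsg.IrrCharacter G, 0 ≤ (aeval μ (P χ χ)).re := by
    intro μ hμ χ
    have h := hre μ hμ χ
    have h2 : 0 ≤ ∑ ψ ∈ Bs, ‖aeval μ (P χ ψ)‖ ^ 2 := Finset.sum_nonneg fun _ _ => sq_nonneg _
    nlinarith
  have hR0 : ∀ χ, 0 ≤ R₀ χ := by
    intro χ
    have h : 0 ≤ (T.card : ℝ) * (R₀ χ : ℝ) := havr χ ▸ Finset.sum_nonneg fun μ hμ => hnn μ hμ χ
    have h2 : (0 : ℝ) ≤ (R₀ χ : ℝ) := by nlinarith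
    exact_mod_cast h2
  refine ⟨fun χ => (R₀ χ).toNat, fun χ hχ => ?_, ?_, fun χ hχ => ?_⟩
  · obtain ⟨v, hv⟩ := hpar χ hχ
    have h := hR0 χ
    refine ⟨v.toNat, ?_⟩
    show (R₀ χ).toNat = 2 * v.toNat + 1
    generalize R₀ χ = r at hv h ⊢
    omega
  · have h1 : (T.card : ℝ) * ∑ χ ∈ X, (R₀ χ : ℝ) ≤ (T.card : ℝ) * ((p ^ d * l : ℕ) : ℝ) := by
      rw [Finset.mul_sum, Finset.sum_congr rfl fun χ _ => (havr χ).symm, Finset.sum_comm,
        ← nsmul_eq_mul, ← Finset.sum_const]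
      refine Finset.sum_le_sum fun μ hμ => ?_
      calc ∑ χ ∈ X, (aeval μ (P χ χ)).re ≤ ∑ χ ∈ Bs, (aeval μ (P χ χ)).re :=
            Finset.sum_le_sum_of_subset_of_nonneg hXB fun χ _ _ => hnn μ hμ χ
        _ = _ := by rw [← Complex.re_sum, htr μ hμ, Complex.natCast_re]
    have h2 : (∑ χ ∈ X, R₀ χ : ℤ) ≤ ((p ^ d * l : ℕ) : ℤ) := by
      exact_mod_cast le_of_mul_le_mul_left h1 hTr
    have h3 : ((∑ χ ∈ X, (R₀ χ).toNat : ℕ) : ℤ) = ∑ χ ∈ X, R₀ χ := by
      rw [Nat.cast_sum]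
      exact Finset.sum_congr rfl fun χ _ => Int.toNat_of_nonneg (hR0 χ)
    rw [← h3] at h2
    exact_mod_cast h2
  · -- one row
    have hoff : ∀ ψ ∈ X, (T.card : ℝ) ≤ ∑ μ ∈ T, ‖aeval μ (P χ ψ)‖ ^ 2 := by
      intro ψ hψ
      have hμq : ∀ μ ∈ T, μ ^ q = 1 := fun μ hμ =>
        ((mem_primitiveRoots (Nat.pos_of_ne_zero hq0)).1 hμ).pow_eq_one
      have hnz : ∀ μ ∈ T, aeval μ (P χ ψ) ≠ 0 := fun μ hμ h =>
        hnu μ (hμq μ hμ) χ hχ ψ hψ (h ▸ ideal_zero hM)
      have hprod := one_le_prod_norm_primitiveRoots (Nat.pos_of_ne_zero hq0) (P χ ψ)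
        (fun μ hμ => by
          rw [hPval]
          refine IsIntegral.sum _ fun η _ => IsIntegral.sum _ fun η' _ => ?_
          exact (((isIntegral_natCast _).mul (isIntegral_natCast _)).mul
            (by simpa using isIntegral_algebraMap (R := ℤ) (A := ℂ) (x := z η η'))).mul
            ((isIntegral_of_pow_eq_one hq0 (hμq μ hμ)).pow _)) hnz
      have hpos : ∀ μ ∈ T, 0 < ‖aeval μ (P χ ψ)‖ ^ 2 := fun μ hμ =>
        pow_pos (norm_pos_iff.2 (hnz μ hμ)) 2
      have hlog : 0 ≤ ∑ μ ∈ T, Real.log (‖aeval μ (P χ ψ)‖ ^ 2) := by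
        rw [← Real.log_prod (fun μ hμ => (hpos μ hμ).ne'), Finset.prod_pow]
        exact Real.log_nonneg (one_le_pow₀ hprod)
      have h2 := hlog.trans (Finset.sum_le_sum fun μ hμ => Real.log_le_sub_one_of_pos (hpos μ hμ))
      rw [Finset.sum_sub_distrib, sub_nonneg, Finset.sum_const, nsmul_one] at h2
      exact h2
    have hdiag : (T.card : ℝ) * (R₀ χ : ℝ) ^ 2 ≤ ∑ μ ∈ T, ‖aeval μ (P χ χ)‖ ^ 2 := by
      have h1 : ∀ μ ∈ T, 2 * (R₀ χ : ℝ) * (aeval μ (P χ χ)).re - (R₀ χ : ℝ) ^ 2 ≤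
          ‖aeval μ (P χ χ)‖ ^ 2 := fun μ _ => by
        have := Complex.abs_re_le_norm (aeval μ (P χ χ))
        nlinarith [sq_nonneg ((aeval μ (P χ χ)).re - (R₀ χ : ℝ)),
          sq_abs (aeval μ (P χ χ)).re, abs_nonneg (aeval μ (P χ χ)).re,
          norm_nonneg (aeval μ (P χ χ))]
      refine le_trans (le_of_eq ?_) (Finset.sum_le_sum h1)
      rw [Finset.sum_sub_distrib, ← Finset.mul_sum, havr, Finset.sum_const, nsmul_eq_mul]
      ring
    have hsum : ∑ μ ∈ T, ∑ ψ ∈ Bs, ‖aeval μ (P χ ψ)‖ ^ 2 =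
        (p ^ d : ℝ) * ((T.card : ℝ) * (R₀ χ : ℝ)) := by
      rw [← havr, Finset.mul_sum]
      exact Finset.sum_congr rfl fun μ hμ => (hre μ hμ χ).symm
    have hlow : (T.card : ℝ) * ((X.card : ℝ) - 1 + (R₀ χ : ℝ) ^ 2) ≤
        ∑ μ ∈ T, ∑ ψ ∈ Bs, ‖aeval μ (P χ ψ)‖ ^ 2 := by
      rw [Finset.sum_comm]
      refine le_trans ?_ (Finset.sum_le_sum_of_subset_of_nonneg hXB fun ψ _ _ =>
        Finset.sum_nonneg fun μ _ => sq_nonneg _)
      rw [← Finset.add_sum_erase X _ hχ]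
      have h1 := Finset.card_nsmul_le_sum (X.erase χ)
        (fun ψ => ∑ μ ∈ T, ‖aeval μ (P χ ψ)‖ ^ 2) (T.card : ℝ)
        fun ψ hψ => hoff ψ (Finset.mem_of_mem_erase hψ)
      rw [nsmul_eq_mul, Finset.card_erase_of_mem hχ,
        Nat.cast_sub (Finset.card_pos.2 ⟨χ, hχ⟩), Nat.cast_one] at h1
      linarith
    rw [hsum] at hlow
    have h4 : (X.card : ℝ) + (R₀ χ : ℝ) ^ 2 ≤ (p ^ d : ℝ) * (R₀ χ : ℝ) + 1 := by
      have := le_of_mul_le_mul_left (show (T.card : ℝ) * ((X.card : ℝ) - 1 + (R₀ χ : ℝ) ^ 2) ≤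
        (T.card : ℝ) * ((p ^ d : ℝ) * (R₀ χ : ℝ)) by linarith) hTr
      linarith
    have h5 : (X.card : ℤ) + R₀ χ ^ 2 ≤ (p ^ d : ℤ) * R₀ χ + 1 := by exact_mod_cast h4
    have h6 := Int.toNat_of_nonneg (hR0 χ)
    have h7 : ((X.card + (R₀ χ).toNat * (R₀ χ).toNat : ℕ) : ℤ) ≤
        ((p ^ d * (R₀ χ).toNat + 1 : ℕ) : ℤ) := by
      push_cast [h6]
      linarith [sq (R₀ χ)]
    exact_mod_cast h7

end Cfsg.Agent.CharTheory.SubsectionOdd
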